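import Groth.Prelude.Def_GrSeg
import Groth.Agent.Lib.Graded.Basic
import Mathlib

/-! Small facts about Segre products. -/

set_option autoImplicit false
set_option linter.unusedSectionVars false
universe u

open DirectSum TensorProduct Groth.Agent.Lib.Graded.Basic

namespace Groth.Agent.H83.Segre

variable {k : Type u} [Field k] {R S T : Type u} [CommRing R] [Algebra k R] [CommRing S] [Algebra k S]
  [CommRing T] [Algebra k T]

theorem tmul_mem_segrePiece {ι : Type} {M N : Type u} [AddCommGroup M] [Module k M] [AddCommGroup N]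
    [Module k N] {τ τ' : Type u} [SetLike τ M] [SetLike τ' N] {ℳ : ι → τ} {𝒩 : ι → τ'} {n : ι} {a : M} {b : N}
    (ha : a ∈ ℳ n) (hb : b ∈ 𝒩 n) : a ⊗ₜ[k] b ∈ GrSeg.segrePiece k ℳ 𝒩 n :=
  Submodule.subset_span ⟨a, ha, b, hb, rfl⟩

/-- Products in a standard graded algebra fill out the pieces. -/
theorem piece_mem_span_mul (𝒜 : ℤ → Submodule k R) [GradedAlgebra 𝒜]
    (hstd : Ideal.span (⋃ n ∈ Set.Ioi (0 : ℤ), (𝒜 n : Set R)) = Ideal.span ((𝒜 1 : Submodule k R) : Set R))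
    (s : ℤ) (hs : 0 ≤ s) : ∀ (t : ℕ), ∀ x ∈ 𝒜 (s + t),
      x ∈ Submodule.span k {z : R | ∃ u ∈ 𝒜 (t : ℤ), ∃ v ∈ 𝒜 s, u * v = z} := by
  intro t
  induction t with
  | zero =>
    intro x hx
    rw [Nat.cast_zero, add_zero] at hx
    exact Submodule.subset_span ⟨1, by rw [Nat.cast_zero]; exact SetLike.GradedOne.one_mem, x, hx, one_mul x⟩
  | succ t ih =>
    intro x hx
    have h : x ∈ Ideal.span ((𝒜 1 : Submodule k R) : Set R) :=
      hstd ▸ Ideal.subset_span (Set.mem_iUnion₂.mpr ⟨s + ((t + 1 : ℕ) : ℤ), Set.mem_Ioi.mpr (by push_cast; omega), hx⟩)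
    suffices ∀ z ∈ Ideal.span ((𝒜 1 : Submodule k R) : Set R), ∀ r : R,
        proj 𝒜 (s + ((t + 1 : ℕ) : ℤ)) (r * z) ∈
          Submodule.span k {z : R | ∃ u ∈ 𝒜 ((t + 1 : ℕ) : ℤ), ∃ v ∈ 𝒜 s, u * v = z} by
      have h1 := this x h 1
      rwa [one_mul, proj_of_mem 𝒜 hx] at h1
    intro z hz
    induction hz using Submodule.span_induction with
    | zero => intro r; rw [mul_zero, map_zero]; exact zero_mem _
    | add u v _ _ hu hv => intro r; rw [mul_add, map_add]; exact add_mem (hu r) (hv r)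
    | smul c u _ hu => intro r; rw [smul_eq_mul, ← mul_assoc]; exact hu _
    | mem z hz =>
      intro r
      rw [← smul_eq_mul, proj_smul_mem 𝒜 𝒜 hz, smul_eq_mul]
      have hw : proj 𝒜 (s + ((t + 1 : ℕ) : ℤ) - 1) r ∈ 𝒜 (s + t) := by
        have := proj_mem 𝒜 (s + ((t + 1 : ℕ) : ℤ) - 1) r
        rwa [show s + ((t + 1 : ℕ) : ℤ) - 1 = s + t by push_cast; ring] at this ⊢
      suffices ∀ w ∈ Submodule.span k {z : R | ∃ u ∈ 𝒜 (t : ℤ), ∃ v ∈ 𝒜 s, u * v = z},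
          w * z ∈ Submodule.span k {z : R | ∃ u ∈ 𝒜 ((t + 1 : ℕ) : ℤ), ∃ v ∈ 𝒜 s, u * v = z} from
        this _ (ih _ hw)
      intro w hw'
      induction hw' using Submodule.span_induction with
      | mem w hw =>
        obtain ⟨a, ha, b, hb, rfl⟩ := hw
        refine Submodule.subset_span ⟨a * z, ?_, b, hb, by ring⟩
        rw [Nat.cast_succ]; exact SetLike.GradedMul.mul_mem ha hz
      | zero => rw [zero_mul]; exact zero_mem _
      | add a b _ _ ha hb => rw [add_mul]; exact add_mem ha hb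
      | smul c a _ ha => rw [smul_mul_assoc]; exact Submodule.smul_mem _ c ha

variable {𝒜 : ℤ → Submodule k R} [GradedAlgebra 𝒜] {ℬ : ℤ → Submodule k S} [GradedAlgebra ℬ]
  {𝒯 : ℤ → Submodule k T} [GradedAlgebra 𝒯] {ψ : T →ₐ[k] R ⊗[k] S}
  {M N P : Type u} [AddCommGroup M] [Module R M] [Module k M] [IsScalarTower k R M]
  [AddCommGroup N] [Module S N] [Module k N] [IsScalarTower k S N]
  [AddCommGroup P] [Module T P] [Module k P] [IsScalarTower k T P]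
  {τM τN : Type u} [SetLike τM M] [SetLike τN N]
  {ℳ : ℤ → τM} {𝒩 : ℤ → τN} {𝒬 : ℤ → AddSubgroup P} [DirectSum.Decomposition 𝒬]
  {φ : P →ₗ[k] M ⊗[k] N} (hT : GrSeg.IsSegreRing 𝒜 ℬ 𝒯 ψ) (hP : GrSeg.IsSegreMod ψ ℳ 𝒩 𝒬 φ)

include hT in
theorem exists_ring_elem {n : ℤ} {w : R ⊗[k] S} (hw : w ∈ GrSeg.segrePiece k 𝒜 ℬ n) :
    ∃ t ∈ 𝒯 n, ψ t = w := by
  have : w ∈ (𝒯 n).map ψ.toLinearMap := (hT.2 n).symm ▸ hw
  exact this

include hP in
theorem exists_mod_elem {n : ℤ} {w : M ⊗[k] N} (hw : w ∈ GrSeg.segrePiece k ℳ 𝒩 n) :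
    ∃ p ∈ 𝒬 n, φ p = w := by
  have : w ∈ φ '' (𝒬 n : Set P) := (hP.image_piece n).symm ▸ hw
  exact this

include hP in
theorem mod_mem_segre {n : ℤ} {p : P} (hp : p ∈ 𝒬 n) : φ p ∈ GrSeg.segrePiece k ℳ 𝒩 n :=
  (hP.image_piece n).subset ⟨p, hp, rfl⟩

include hP in
theorem mem_of_segre {n : ℤ} {p : P} (hp : φ p ∈ GrSeg.segrePiece k ℳ 𝒩 n) : p ∈ 𝒬 n := by
  obtain ⟨q, hq, he⟩ := exists_mod_elem hP hp
  exact hP.injective he ▸ hq

theorem act_segre {ι : Type} [AddMonoid ι] [DecidableEq ι] {𝒜' : ι → Submodule k R} {ℬ' : ι → Submodule k S}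
    {τM' τN' : Type u} [SetLike τM' M] [SetLike τN' N] {ℳ' : ι → τM'} {𝒩' : ι → τN'}
    {i n m : ι} (hM : ∀ r ∈ 𝒜' i, ∀ a ∈ ℳ' n, r • a ∈ ℳ' m) (hN : ∀ s ∈ ℬ' i, ∀ b ∈ 𝒩' n, s • b ∈ 𝒩' m)
    {w : R ⊗[k] S} (hw : w ∈ GrSeg.segrePiece k 𝒜' ℬ' i) {z : M ⊗[k] N}
    (hz : z ∈ GrSeg.segrePiece k ℳ' 𝒩' n) :
    GrSeg.act k R S M N w z ∈ GrSeg.segrePiece k ℳ' 𝒩' m := by
  unfold GrSeg.segrePiece at hw hz
  induction hw using Submodule.span_induction with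
  | zero => simp
  | add u v _ _ hu hv => rw [map_add, LinearMap.add_apply]; exact add_mem hu hv
  | smul c u _ hu => rw [map_smul, LinearMap.smul_apply]; exact Submodule.smul_mem _ c hu
  | mem w hw =>
    obtain ⟨r, hr, s, hs, rfl⟩ := hw
    induction hz using Submodule.span_induction with
    | zero => simp
    | add u v _ _ hu hv => rw [map_add]; exact add_mem hu hv
    | smul c u _ hu => rw [map_smul]; exact Submodule.smul_mem _ c hu
    | mem z hz =>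
      obtain ⟨a, ha, b, hb, rfl⟩ := hz
      rw [GrSeg.act_tmul]
      exact tmul_mem_segrePiece (hM r hr a ha) (hN s hs b hb)

end Groth.Agent.H83.Segre
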